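import Groth.Agent.MatlisLib.Completion
import Mathlib.RingTheory.KrullDimension.Regular
import Mathlib.RingTheory.Filtration
import Mathlib.RingTheory.Ideal.Quotient.Operations

/-!
# An elementary lower bound for the Samuel function
-/

set_option autoImplicit false

universe u

namespace Groth.Agent.SamuelLow

open IsLocalRing

variable {R : Type u} [CommRing R]

theorem isFiniteLength_quotient [IsNoetherianRing R] [IsLocalRing R] {I : Ideal R}
    (hI : maximalIdeal R ≤ I.radical) : IsFiniteLength R (R ⧸ I) := by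
  obtain ⟨k, hk⟩ := Ideal.exists_pow_le_of_le_radical_of_fg hI (IsNoetherian.noetherian _)
  exact Module.length_ne_top_iff.1 (ne_top_of_le_ne_top
    (Module.length_ne_top_iff.2 (MatlisLib.isFiniteLength_quotient_pow (maximalIdeal R) k))
    (Module.length_le_of_surjective (Submodule.factor hk) (Submodule.factor_surjective hk)))

theorem length_ne_top_quotient_pow [IsNoetherianRing R] [IsLocalRing R] {q : Ideal R} {k : ℕ}
    (hk : maximalIdeal R ^ k ≤ q) (N : ℕ) : Module.length R (R ⧸ q ^ N) ≠ ⊤ :=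
  Module.length_ne_top_iff.2 (isFiniteLength_quotient fun r hr => ⟨k * N, by
    rw [pow_mul]
    exact Ideal.pow_mem_pow (hk (Ideal.pow_mem_pow hr k)) N⟩)

theorem exists_pow_le_length : ∀ (n : ℕ) (R : Type u) [CommRing R] [IsNoetherianRing R]
    [IsLocalRing R] (q : Ideal R), q ≤ maximalIdeal R → (∃ k, maximalIdeal R ^ k ≤ q) →
      (n : WithBot ℕ∞) ≤ ringKrullDim R →
      ∃ K : ℕ, ∀ N : ℕ, 1 ≤ N → N ^ n ≤ K * (Module.length R (R ⧸ q ^ N)).toNat := by
  intro n
  induction n with
  | zero =>
    intro R _ _ _ q hq hk _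
    obtain ⟨k, hk⟩ := hk
    refine ⟨1, fun N hN => ?_⟩
    rw [pow_zero, one_mul, Nat.one_le_iff_ne_zero, Ne, ENat.toNat_eq_zero]
    rintro (h | h)
    · rw [Module.length_eq_zero_iff, Ideal.Quotient.subsingleton_iff] at h
      exact (maximalIdeal.isMaximal R).ne_top (top_le_iff.1
        (h.ge.trans ((Ideal.pow_le_self (Nat.one_le_iff_ne_zero.1 hN)).trans hq)))
    · exact length_ne_top_quotient_pow hk N h
  | succ n ih =>
    intro R _ _ _ q hq hk hdim
    obtain ⟨k, hk⟩ := hk
    -- a prime `P` with `dim R ⧸ P ≥ n + 1`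
    obtain ⟨s, hs⟩ := Order.le_krullDim_iff.1 hdim
    let P : Ideal R := s.head.asIdeal
    haveI : P.IsPrime := s.head.isPrime
    have hdimD : ((n + 1 : ℕ) : WithBot ℕ∞) ≤ ringKrullDim (R ⧸ P) := by
      rw [ringKrullDim_quotient]
      refine Order.le_krullDim_iff.2 ⟨⟨s.length, fun i => ⟨s i, ?_⟩, fun i => s.step i⟩, hs⟩
      exact (PrimeSpectrum.mem_zeroLocus _ _).2 (s.monotone (Fin.zero_le i))
    have hπ : Function.Surjective (Ideal.Quotient.mk P) := Ideal.Quotient.mk_surjective
    haveI : IsLocalRing (R ⧸ P) :=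
      haveI : Nontrivial (R ⧸ P) := Ideal.Quotient.nontrivial_iff.2 s.head.isPrime.ne_top
      IsLocalRing.of_surjective' _ hπ
    have hmap : (maximalIdeal R).map (Ideal.Quotient.mk P) = maximalIdeal (R ⧸ P) :=
      IsLocalRing.eq_maximalIdeal (Ideal.IsMaximal.map_of_surjective_of_ker_le hπ
        (by rw [Ideal.mk_ker]; exact le_maximalIdeal s.head.isPrime.ne_top))
    let qD := q.map (Ideal.Quotient.mk P)
    have hqD : qD ≤ maximalIdeal (R ⧸ P) := hmap ▸ Ideal.map_mono hq
    have hkD : maximalIdeal (R ⧸ P) ^ k ≤ qD := by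
      rw [← hmap, ← Ideal.map_pow]; exact Ideal.map_mono hk
    -- a nonzero element of `qD`
    obtain ⟨x, hxq, hx0⟩ : ∃ x ∈ qD, x ≠ 0 := by
      refine Submodule.exists_mem_ne_zero_of_ne_bot fun h0 => ?_
      rw [h0, le_bot_iff] at hkD
      have hm0 : maximalIdeal (R ⧸ P) = ⊥ := by
        exact le_bot_iff.1 fun y hy => IsReduced.eq_zero y
          ⟨k, (Submodule.mem_bot _).1 (hkD.le (Ideal.pow_mem_pow hy k))⟩
      haveI : Ring.KrullDimLE 0 (R ⧸ P) := Ring.krullDimLE_zero_iff.2 fun Q hQ => by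
        have : Q = maximalIdeal (R ⧸ P) :=
          le_antisymm (le_maximalIdeal hQ.ne_top) (by rw [hm0]; exact bot_le)
        rw [this]; infer_instance
      have := hdimD.trans (Ring.krullDimLE_iff.1 (inferInstance : Ring.KrullDimLE 0 (R ⧸ P)))
      simp at this
    have hxm : x ∈ maximalIdeal (R ⧸ P) := hqD hxq
    let Dx := (R ⧸ P) ⧸ Ideal.span {x}
    have hDx : Function.Surjective (Ideal.Quotient.mk (Ideal.span {x})) :=
      Ideal.Quotient.mk_surjective
    haveI : IsLocalRing Dx :=
      haveI : Nontrivial Dx := Ideal.Quotient.nontrivial_iff.2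
        (ne_top_of_le_ne_top (maximalIdeal.isMaximal _).ne_top
          ((Ideal.span_singleton_le_iff_mem _).2 hxm))
      IsLocalRing.of_surjective' _ hDx
    have hdimx : (n : WithBot ℕ∞) ≤ ringKrullDim Dx := by
      have h1 := ringKrullDim_quotient_span_singleton_succ_eq_ringKrullDim_of_mem_nonZeroDivisors
        (mem_nonZeroDivisors_of_ne_zero hx0) hxm
      rw [← h1, Nat.cast_add, Nat.cast_one] at hdimD
      revert hdimD
      generalize ringKrullDim Dx = d
      cases d with
      | bot => simp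
      | coe d =>
        intro h
        have h' : (n : ℕ∞) + 1 ≤ d + 1 := WithBot.coe_le_coe.1 (by push_cast; exact h)
        exact WithBot.coe_le_coe.2 ((ENat.add_le_add_iff_right ENat.one_ne_top).1 h')
    have hmap' : (maximalIdeal (R ⧸ P)).map (Ideal.Quotient.mk (Ideal.span {x})) = maximalIdeal Dx :=
      IsLocalRing.eq_maximalIdeal (Ideal.IsMaximal.map_of_surjective_of_ker_le hDx
        (by rw [Ideal.mk_ker, Ideal.span_singleton_le_iff_mem]; exact hxm))
    obtain ⟨K, hK⟩ := ih Dx (qD.map (Ideal.Quotient.mk (Ideal.span {x})))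
      (hmap' ▸ Ideal.map_mono hqD)
      ⟨k, by rw [← hmap', ← Ideal.map_pow]; exact Ideal.map_mono hkD⟩ hdimx
    -- Artin–Rees
    obtain ⟨c₀, hc₀⟩ := Ideal.exists_pow_inf_eq_pow_smul (I := qD) (M := R ⧸ P)
      (Ideal.span {x} : Submodule (R ⧸ P) (R ⧸ P))
    let c := c₀ + 1
    let L : ℕ → ℕ := fun N => (Module.length (R ⧸ P) ((R ⧸ P) ⧸ qD ^ N)).toNat
    let L' : ℕ → ℕ := fun N => (Module.length Dx (Dx ⧸ (qD.map (Ideal.Quotient.mk (Ideal.span {x}))) ^ N)).toNat
    have hcol : ∀ N, c ≤ N → ∀ d, x * d ∈ qD ^ N → d ∈ qD ^ (N - c) := by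
      intro N hN d hd
      have h1 : x * d ∈ qD ^ N • (⊤ : Submodule (R ⧸ P) (R ⧸ P)) ⊓ Ideal.span {x} :=
        ⟨by rw [smul_eq_mul, Ideal.mul_top]; exact hd, Ideal.mem_span_singleton.2 ⟨d, rfl⟩⟩
      rw [hc₀ N (by omega)] at h1
      have h2 : x * d ∈ qD ^ (N - c₀) * Ideal.span {x} :=
        Submodule.smul_mono le_rfl inf_le_right h1
      obtain ⟨e, he, hex⟩ := Ideal.mem_mul_span_singleton.1 h2
      rw [mul_comm e] at hex
      rw [← mul_left_cancel₀ hx0 hex]
      exact Ideal.pow_le_pow_right (by omega) he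
    have hrec : ∀ N, c ≤ N → L (N - c) + L' N ≤ L N := by
      intro N hN
      let g : (R ⧸ P) →ₗ[R ⧸ P] (R ⧸ P) ⧸ qD ^ N :=
        (Submodule.mkQ (qD ^ N)).comp (LinearMap.lsmul (R ⧸ P) (R ⧸ P) x)
      have hg : LinearMap.ker g ≤ qD ^ (N - c) := fun d hd =>
        hcol N hN d ((Submodule.Quotient.mk_eq_zero _).1 hd)
      have h1 : Module.length (R ⧸ P) ((R ⧸ P) ⧸ qD ^ (N - c)) ≤
          Module.length (R ⧸ P) (LinearMap.range g) := by
        rw [← g.quotKerEquivRange.length_eq]
        exact Module.length_le_of_surjective (Submodule.factor hg) (Submodule.factor_surjective hg)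
      let h : ((R ⧸ P) ⧸ qD ^ N) →ₗ[R ⧸ P]
          (Dx ⧸ (qD.map (Ideal.Quotient.mk (Ideal.span {x}))) ^ N) :=
        Submodule.liftQ (qD ^ N) (Algebra.linearMap (R ⧸ P) _) fun r hr => by
          exact Ideal.Quotient.eq_zero_iff_mem.2
            ((Ideal.map_pow _ qD N).le (Ideal.mem_map_of_mem _ hr))
      have hh : LinearMap.range g ≤ LinearMap.ker h := by
        rintro _ ⟨d, rfl⟩
        show Ideal.Quotient.mk _ (Ideal.Quotient.mk (Ideal.span {x}) (x * d)) = 0
        rw [Ideal.Quotient.eq_zero_iff_mem.2 (Ideal.mem_span_singleton.2 ⟨d, rfl⟩), map_zero]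
      have hh' : Function.Surjective ((LinearMap.range g).liftQ h hh) := fun y => by
        obtain ⟨y, rfl⟩ := Ideal.Quotient.mk_surjective y
        obtain ⟨y, rfl⟩ := Ideal.Quotient.mk_surjective y
        exact ⟨Submodule.Quotient.mk (Submodule.Quotient.mk y), rfl⟩
      have h2 := Module.length_le_of_surjective _ hh'
      rw [Module.length_eq_of_surjective (S := R ⧸ P) (R := Dx) hDx] at h2
      have h3 := Module.length_eq_add_of_exact _ _ (LinearMap.range g).injective_subtype
        (LinearMap.range g).mkQ_surjective (LinearMap.exact_subtype_mkQ (LinearMap.range g))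
      have h4 := add_le_add h1 h2
      rw [← h3] at h4
      have hne := length_ne_top_quotient_pow hkD
      have hne' : Module.length Dx (Dx ⧸ (qD.map (Ideal.Quotient.mk (Ideal.span {x}))) ^ N) ≠ ⊤ :=
        ne_top_of_le_ne_top (hne N) (le_trans (le_add_self) h4)
      show (Module.length (R ⧸ P) _).toNat + (Module.length Dx _).toNat ≤ _
      rw [← ENat.toNat_add (hne _) hne']
      exact ENat.toNat_le_toNat h4 (hne N)
    have hL : ∀ N, L N ≤ (Module.length R (R ⧸ q ^ N)).toNat := by
      intro N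
      refine ENat.toNat_le_toNat ?_ (length_ne_top_quotient_pow hk N)
      rw [← Module.length_eq_of_surjective (S := R) (R := R ⧸ P) hπ]
      refine Module.length_le_of_surjective (Submodule.liftQ (q ^ N) (Algebra.linearMap R _) ?_) ?_
      · intro r hr
        show Ideal.Quotient.mk _ (Ideal.Quotient.mk P r) = 0
        rw [Ideal.Quotient.eq_zero_iff_mem, ← Ideal.map_pow]
        exact Ideal.mem_map_of_mem _ hr
      · intro y
        obtain ⟨y, rfl⟩ := Ideal.Quotient.mk_surjective y
        obtain ⟨y, rfl⟩ := Ideal.Quotient.mk_surjective y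
        exact ⟨Submodule.Quotient.mk y, rfl⟩
    have hiter : ∀ N j, 2 * j * c ≤ N → j * N ^ n + 2 ^ n * K * L (N - j * c) ≤ 2 ^ n * K * L N := by
      intro N j
      induction j with
      | zero => intro _; simp
      | succ j ihj =>
        intro hj
        have hb : 2 * j * c ≤ N := le_trans (by gcongr; omega) hj
        have e : N - j * c - c = N - (j + 1) * c := by rw [Nat.succ_mul]; omega
        have hjc : j * c + c ≤ N := by
          have : 2 * (j + 1) * c = 2 * (j * c + c) := by ring
          omega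
        have h1 := hrec (N - j * c) (by omega)
        rw [e] at h1
        have h2 : N ^ n ≤ 2 ^ n * K * L' (N - j * c) := by
          calc N ^ n ≤ (2 * (N - j * c)) ^ n := Nat.pow_le_pow_left (by
                have : 2 * j * c = 2 * (j * c) := by ring
                omega) n
            _ = 2 ^ n * (N - j * c) ^ n := mul_pow _ _ _
            _ ≤ 2 ^ n * (K * L' (N - j * c)) :=
                Nat.mul_le_mul_left _ (hK (N - j * c) (by omega))
            _ = _ := (mul_assoc _ _ _).symm
        calc (j + 1) * N ^ n + 2 ^ n * K * L (N - (j + 1) * c)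
            = j * N ^ n + (N ^ n + 2 ^ n * K * L (N - (j + 1) * c)) := by ring
          _ ≤ j * N ^ n + (2 ^ n * K * L' (N - j * c) + 2 ^ n * K * L (N - (j + 1) * c)) := by gcongr
          _ = j * N ^ n + 2 ^ n * K * (L (N - (j + 1) * c) + L' (N - j * c)) := by ring
          _ ≤ j * N ^ n + 2 ^ n * K * L (N - j * c) := by gcongr
          _ ≤ _ := ihj hb
    refine ⟨4 * c * (2 ^ n * K) + (2 * c) ^ (n + 1), fun N hN => le_trans ?_
      (Nat.mul_le_mul_left _ (hL N))⟩
    have hpos : 1 ≤ L N := by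
      rw [Nat.one_le_iff_ne_zero]
      show (Module.length (R ⧸ P) ((R ⧸ P) ⧸ qD ^ N)).toNat ≠ 0
      rw [Ne, ENat.toNat_eq_zero]
      rintro (h | h)
      · rw [Module.length_eq_zero_iff, Ideal.Quotient.subsingleton_iff] at h
        exact (maximalIdeal.isMaximal _).ne_top (top_le_iff.1
          (h.ge.trans ((Ideal.pow_le_self (Nat.one_le_iff_ne_zero.1 hN)).trans hqD)))
      · exact length_ne_top_quotient_pow hkD N h
    rw [add_mul]
    rcases Nat.lt_or_ge N (2 * c) with hsmall | hbig
    · exact le_add_left (le_trans (Nat.pow_le_pow_left hsmall.le _) (Nat.le_mul_of_pos_right _ hpos))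
    · refine le_add_right ?_
      let j := N / (2 * c)
      have hj0 : 1 ≤ j := (Nat.one_le_div_iff (by omega)).2 hbig
      have hjc : 2 * j * c ≤ N := by
        calc 2 * j * c = N / (2 * c) * (2 * c) := by ring
          _ ≤ N := Nat.div_mul_le_self _ _
      have hNle : N ≤ 4 * c * j := by
        have h1 : N < 2 * c * (j + 1) := Nat.lt_mul_div_succ N (by omega)
        have h2 : 2 * c * (j + 1) ≤ 2 * c * (j + j) := Nat.mul_le_mul_left _ (by omega)
        have h3 : 2 * c * (j + j) = 4 * c * j := by ring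
        omega
      calc N ^ (n + 1) = N * N ^ n := pow_succ' N n
        _ ≤ 4 * c * j * N ^ n := by gcongr
        _ = 4 * c * (j * N ^ n) := by ring
        _ ≤ 4 * c * (j * N ^ n + 2 ^ n * K * L (N - j * c)) :=
            Nat.mul_le_mul_left _ (Nat.le_add_right _ _)
        _ ≤ 4 * c * (2 ^ n * K * L N) := Nat.mul_le_mul_left _ (hiter N j hjc)
        _ = _ := by ring

end Groth.Agent.SamuelLow
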